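import Mathlib
import Cfsg.Prelude.Def_PLocal

/-!
Polynomial sequences with values in the lower central series (after Lazard), and the resulting
congruence `(ab)^p ≡ a^p b^p` modulo `p`-th powers of the derived subgroup in class less than `p`.
-/

set_option autoImplicit false

open scoped commutatorElement

namespace CfsgLib.Regular

variable {G : Type*} [Group G]

/-- The lower central series indexed from `1`; `gam 0 = gam 1 = ⊤`. -/
def gam (i : ℕ) : Subgroup G := (⊤ : Subgroup G).lowerCentralSeries (i - 1)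

instance (i : ℕ) : (gam i : Subgroup G).Normal := by unfold gam; infer_instance

theorem gam_anti {i j : ℕ} (h : i ≤ j) : (gam j : Subgroup G) ≤ gam i :=
  Subgroup.lowerCentralSeries_antitone _ (by omega)

theorem commutator_commutator_le (A B C N : Subgroup G) [N.Normal] (h1 : ⁅⁅B, C⁆, A⁆ ≤ N)
    (h2 : ⁅⁅C, A⁆, B⁆ ≤ N) : ⁅⁅A, B⁆, C⁆ ≤ N := by
  have key : ∀ X Y Z : Subgroup G, ⁅⁅X, Y⁆, Z⁆ ≤ N ↔
      ⁅⁅X.map (QuotientGroup.mk' N), Y.map (QuotientGroup.mk' N)⁆,
        Z.map (QuotientGroup.mk' N)⁆ = ⊥ := fun X Y Z => by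
    rw [← Subgroup.map_commutator, ← Subgroup.map_commutator, Subgroup.map_eq_bot_iff,
      QuotientGroup.ker_mk']
  rw [key] at h1 h2 ⊢
  exact Subgroup.commutator_commutator_eq_bot_of_rotate h1 h2

theorem lcs_commutator_le (i j : ℕ) :
    ⁅(⊤ : Subgroup G).lowerCentralSeries i, (⊤ : Subgroup G).lowerCentralSeries j⁆ ≤
      (⊤ : Subgroup G).lowerCentralSeries (i + j + 1) := by
  induction j generalizing i with
  | zero => exact le_rfl
  | succ j ih =>
    rw [Subgroup.lowerCentralSeries_succ _ j, Subgroup.commutator_comm]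
    refine commutator_commutator_le _ _ _ _ ?_ ?_
    · rw [Subgroup.commutator_comm ⊤, ← Subgroup.lowerCentralSeries_succ]
      exact (ih (i + 1)).trans (Subgroup.lowerCentralSeries_antitone _ (by omega))
    · exact (Subgroup.commutator_mono (ih i) le_rfl).trans
        (Subgroup.lowerCentralSeries_antitone _ (by omega : i + (j + 1) + 1 ≤ i + j + 1 + 1))

theorem gam_comm {i j : ℕ} {x y : G} (hx : x ∈ gam i) (hy : y ∈ gam j) : ⁅x, y⁆ ∈ gam (i + j) := by
  rcases Nat.eq_zero_or_pos i with rfl | hi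
  · rw [zero_add]
    exact Subgroup.commutator_le_right ⊤ (gam j)
      (Subgroup.commutator_mem_commutator (Subgroup.mem_top x) hy)
  rcases Nat.eq_zero_or_pos j with rfl | hj
  · rw [add_zero]
    exact Subgroup.commutator_le_left (gam i) ⊤
      (Subgroup.commutator_mem_commutator hx (Subgroup.mem_top y))
  refine Subgroup.lowerCentralSeries_antitone _ ?_
    (lcs_commutator_le (i - 1) (j - 1) (Subgroup.commutator_mem_commutator hx hy))
  omega

/-- The difference of a sequence. -/
def diff (f : ℕ → G) : ℕ → G := fun n => (f n)⁻¹ * f (n + 1)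

/-- Polynomial sequences, up to depth `m`. -/
def PolyUpTo : ℕ → ℕ → (ℕ → G) → Prop
  | 0, j, f => ∀ n, f n ∈ gam j
  | m + 1, j, f => PolyUpTo m j f ∧ PolyUpTo m (j + 1) (diff f)

/-- Polynomial sequences of weight `j`. -/
def Poly (j : ℕ) (f : ℕ → G) : Prop := ∀ m, PolyUpTo m j f

theorem polyUpTo_mem : ∀ (m j : ℕ) (f : ℕ → G), PolyUpTo m j f → ∀ n, f n ∈ gam j
  | 0, _, _, h => h
  | m + 1, j, f, h => polyUpTo_mem m j f h.1

theorem polyUpTo_anti : ∀ (m : ℕ) {i j : ℕ}, i ≤ j → ∀ {f : ℕ → G}, PolyUpTo m j f → PolyUpTo m i f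
  | 0, _, _, hij, _, h => fun n => gam_anti hij (h n)
  | m + 1, _, _, hij, _, h =>
    ⟨polyUpTo_anti m hij h.1, polyUpTo_anti m (Nat.succ_le_succ hij) h.2⟩

theorem polyUpTo_one : ∀ (m j : ℕ), PolyUpTo m j (1 : ℕ → G)
  | 0, _ => fun _ => Subgroup.one_mem _
  | m + 1, j => ⟨polyUpTo_one m j, by
      rw [show diff (1 : ℕ → G) = 1 from funext fun n => by simp [diff]]
      exact polyUpTo_one m (j + 1)⟩

theorem polyUpTo_group (m : ℕ) :
    (∀ (j : ℕ) (f g : ℕ → G), PolyUpTo m j f → PolyUpTo m j g → PolyUpTo m j (f * g)) ∧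
    (∀ (j : ℕ) (f : ℕ → G), PolyUpTo m j f → PolyUpTo m j f⁻¹) ∧
    (∀ (i j : ℕ) (f g : ℕ → G), PolyUpTo m i f → PolyUpTo m j g →
      PolyUpTo m (i + j) (fun n => ⁅f n, g n⁆)) := by
  induction m with
  | zero =>
    exact ⟨fun j f g hf hg n => mul_mem (hf n) (hg n), fun j f hf n => inv_mem (hf n),
      fun i j f g hf hg n => gam_comm (hf n) (hg n)⟩
  | succ m ih =>
    obtain ⟨hmul, hinv, hcomm⟩ := ih
    have hconj : ∀ (k i : ℕ) (d g : ℕ → G), PolyUpTo m k d → PolyUpTo m i g →
        PolyUpTo m k (g * d * g⁻¹) := by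
      intro k i d g hd hg
      have h1 := hmul k _ d (polyUpTo_anti m (Nat.le_add_left k i) (hcomm i k g d hg hd)) hd
      convert h1 using 1
      funext n
      simp [commutatorElement_def]
    have hconj' : ∀ (k i : ℕ) (d g : ℕ → G), PolyUpTo m k d → PolyUpTo m i g →
        PolyUpTo m k (g⁻¹ * d * g) := by
      intro k i d g hd hg
      simpa using hconj k i d g⁻¹ hd (hinv i g hg)
    refine ⟨fun j f g hf hg => ⟨hmul j f g hf.1 hg.1, ?_⟩, fun j f hf => ⟨hinv j f hf.1, ?_⟩,
      fun i j f g hf hg => ⟨hcomm i j f g hf.1 hg.1, ?_⟩⟩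
    · have h1 := hmul _ _ _ (hconj' _ j (diff f) g hf.2 hg.1) hg.2
      convert h1 using 1
      funext n
      simp only [diff, Pi.mul_apply, Pi.inv_apply]
      group
    · have h1 := hconj _ j _ f (hinv _ _ hf.2) hf.1
      convert h1 using 1
      funext n
      simp only [diff, Pi.mul_apply, Pi.inv_apply]
      group
    · set h : ℕ → G := fun n => ⁅f n, g n⁆ with hh
      set d := diff f
      set e := diff g
      have hhm : PolyUpTo m (i + j) h := hcomm i j f g hf.1 hg.1
      have hdg : PolyUpTo m (i + j + 1) (fun n => ⁅d n, g n⁆) :=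
        polyUpTo_anti m (by omega) (hcomm (i + 1) j d g hf.2 hg.1)
      have hde : PolyUpTo m (i + j + 1) (fun n => ⁅d n, e n⁆) :=
        polyUpTo_anti m (by omega) (hcomm (i + 1) (j + 1) d e hf.2 hg.2)
      have hfe : PolyUpTo m (i + j + 1) (fun n => ⁅f n, e n⁆) :=
        polyUpTo_anti m (by omega) (hcomm i (j + 1) f e hf.1 hg.2)
      have hA := hconj _ i _ f (hmul _ _ _ hdg (hconj _ j _ g hde hg.1)) hf.1
      have hB := hconj _ j _ g hfe hg.1
      have h1 := hmul _ _ _ (hconj' _ (i + j) _ h hA hhm) hB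
      convert h1 using 1
      funext n
      simp only [d, e, hh, diff, Pi.mul_apply, Pi.inv_apply, commutatorElement_def]
      group

theorem poly_mul {j : ℕ} {f g : ℕ → G} (hf : Poly j f) (hg : Poly j g) : Poly j (f * g) :=
  fun m => (polyUpTo_group m).1 j f g (hf m) (hg m)

theorem poly_inv {j : ℕ} {f : ℕ → G} (hf : Poly j f) : Poly j f⁻¹ :=
  fun m => (polyUpTo_group m).2.1 j f (hf m)

theorem poly_diff {j : ℕ} {f : ℕ → G} (hf : Poly j f) : Poly (j + 1) (diff f) :=
  fun m => (hf (m + 1)).2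

theorem poly_of_diff {j : ℕ} {f : ℕ → G} (hmem : ∀ n, f n ∈ gam j)
    (hd : Poly (j + 1) (diff f)) : Poly j f := by
  intro m
  induction m with
  | zero => exact hmem
  | succ m ih => exact ⟨ih, hd m⟩

theorem poly_conj {i : ℕ} (u : G) {e : G} (he : e ∈ gam i) :
    Poly i (fun n : ℕ => (u ^ n)⁻¹ * e * u ^ n) := by
  intro m
  induction m generalizing i e with
  | zero =>
    intro n
    simpa using (inferInstance : (gam i : Subgroup G).Normal).conj_mem e he (u ^ n)⁻¹
  | succ m ih =>
    refine ⟨ih he, ?_⟩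
    have h1 : ⁅e⁻¹, u⁻¹⁆ ∈ gam (i + 1) := gam_comm (inv_mem he) (show u⁻¹ ∈ gam 1 by
      simp [gam])
    convert ih h1 using 1
    funext n
    simp only [diff, commutatorElement_def]
    rw [pow_succ']
    group

theorem poly_binom {j : ℕ} (k : ℕ) {e : G} (he : e ∈ gam (j + k)) :
    Poly j (fun n : ℕ => e ^ n.choose k) := by
  induction k generalizing j with
  | zero =>
    refine poly_of_diff (fun n => pow_mem he _) ?_
    rw [show diff (fun n : ℕ => e ^ n.choose 0) = 1 from funext fun n => by simp [diff]]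
    exact fun m => polyUpTo_one m _
  | succ k ih =>
    refine poly_of_diff (fun n => pow_mem (gam_anti (by omega) he) _) ?_
    rw [show diff (fun n : ℕ => e ^ n.choose (k + 1)) = fun n => e ^ n.choose k from
      funext fun n => by
        simp only [diff, Nat.choose_succ_succ']
        rw [inv_mul_eq_iff_eq_mul, ← pow_add, add_comm]]
    exact ih (by rwa [show j + 1 + k = j + (k + 1) by omega])

theorem poly_vanish {j : ℕ} {f : ℕ → G} (hf : Poly j f) (k : ℕ) (h : ∀ i < k, f i = 1) :
    f k ∈ gam (j + k) := by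
  induction k generalizing j f with
  | zero => exact polyUpTo_mem 0 j f (hf 0) 0
  | succ k ih =>
    have h1 := ih (poly_diff hf) fun i hi => by simp [diff, h i (by omega), h (i + 1) (by omega)]
    rw [diff, h k (by omega), inv_one, one_mul] at h1
    rwa [show j + (k + 1) = j + 1 + k by omega]

theorem powerClosure_normal (p n : ℕ) (H : Subgroup G) [H.Normal] :
    (Cfsg.powerClosure p n H).Normal := by
  refine ⟨fun x hx g => ?_⟩
  refine Subgroup.closure_induction (p := fun x _ => g * x * g⁻¹ ∈ Cfsg.powerClosure p n H)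
    ?_ (by simp) ?_ ?_ hx
  · rintro _ ⟨y, hy, rfl⟩
    rw [← conj_pow]
    exact Subgroup.subset_closure ⟨_, (inferInstance : H.Normal).conj_mem y hy g, rfl⟩
  · intro u v _ _ hu hv
    simpa [mul_assoc] using mul_mem hu hv
  · intro u _ hu
    simpa [mul_assoc] using inv_mem hu

/-- In class less than `p`, `(ab)^p = a^p b^p c` with `c` in the subgroup of `p`-th powers of
the derived subgroup. -/
theorem mul_pow_prime {p : ℕ} (hp : p.Prime)
    (hcl : (⊤ : Subgroup G).lowerCentralSeries (p - 1) = ⊥) (a b : G) :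
    ∃ c ∈ Cfsg.powerClosure p 1 (commutator G), (a * b) ^ p = a ^ p * b ^ p * c := by
  set N := Cfsg.powerClosure p 1 (commutator G) with hN
  haveI : N.Normal := powerClosure_normal p 1 _
  set f : ℕ → G := fun n => (a ^ n)⁻¹ * (a * b) ^ n with hf
  have hdf : diff f = fun n => ((a * b) ^ n)⁻¹ * b * (a * b) ^ n := funext fun n => by
    simp only [diff, hf]
    rw [pow_succ' a, pow_succ' (a * b)]
    generalize (a * b) ^ n = w
    group
  have hfP : Poly 0 f := poly_of_diff (fun n => by simp [gam]) (by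
    rw [hdf]; exact poly_conj _ (by simp [gam]))
  set f₂ : ℕ → G := f * (fun n : ℕ => b ^ n.choose 1)⁻¹ with hf₂
  have hf₂P : Poly 0 f₂ := poly_mul hfP (poly_inv (poly_binom 1 (by simp [gam])))
  have hinv : ∀ k, 2 ≤ k → k ≤ p → ∃ g : ℕ → G, Poly 0 g ∧ (∀ i < k, g i = 1) ∧
      (g p)⁻¹ * f₂ p ∈ N := by
    intro k hk2
    induction k, hk2 using Nat.le_induction with
    | base =>
      refine fun _ => ⟨f₂, hf₂P, fun i hi => ?_, by simp⟩
      interval_cases i <;> simp [hf₂, hf]
    | succ k hk ih =>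
      intro hkp
      obtain ⟨g, hg, hg0, hgN⟩ := ih (by omega)
      have he : g k ∈ gam k := by simpa using poly_vanish hg k hg0
      refine ⟨g * (fun n : ℕ => g k ^ n.choose k)⁻¹,
        poly_mul hg (poly_inv (poly_binom k (by simpa using he))), fun i hi => ?_, ?_⟩
      · rcases Nat.lt_succ_iff_lt_or_eq.mp hi with hlt | rfl
        · simp [hg0 i hlt, Nat.choose_eq_zero_of_lt hlt]
        · simp
      · have hmem : g k ^ p.choose k ∈ N := by
          obtain ⟨c, hc⟩ := hp.dvd_choose_self (by omega : k ≠ 0) (by omega)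
          rw [hc, mul_comm, pow_mul]
          refine Subgroup.subset_closure ⟨g k ^ c, pow_mem ?_ c, by rw [pow_one]⟩
          rw [← Subgroup.top_lowerCentralSeries_one]
          exact Subgroup.lowerCentralSeries_antitone _ (by omega) he
        simp only [Pi.mul_apply, Pi.inv_apply, mul_inv_rev, inv_inv, mul_assoc]
        exact mul_mem hmem hgN
  obtain ⟨g, hg, hg0, hgN⟩ := hinv p hp.two_le le_rfl
  have hgp : g p = 1 := by
    have := poly_vanish hg p hg0
    rw [zero_add, gam, hcl] at this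
    exact Subgroup.mem_bot.mp this
  rw [hgp, inv_one, one_mul] at hgN
  refine ⟨(b ^ p)⁻¹ * f₂ p * b ^ p, by
    simpa using (inferInstance : N.Normal).conj_mem _ hgN (b ^ p)⁻¹, ?_⟩
  simp only [hf₂, hf, Pi.mul_apply, Pi.inv_apply, Nat.choose_one_right]
  group

end CfsgLib.Regular
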