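import Mathlib
import Cfsg.Prelude.Def_PLocal
import Cfsg.Agent.Lib.Regular.Lazard

/-!
Regular `p`-groups (after P. Hall), developed from the power condition at a single level `k`.
-/

set_option autoImplicit false
set_option linter.style.haveILetI false
set_option linter.unusedSectionVars false

open scoped commutatorElement

namespace CfsgLib.Regular

variable {G : Type*} [Group G] [Finite G] {p : ℕ} [hp : Fact p.Prime]

theorem powerClosure_mono (k : ℕ) {H K : Subgroup G} (h : H ≤ K) :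
    Cfsg.powerClosure p k H ≤ Cfsg.powerClosure p k K :=
  Subgroup.closure_mono fun _ ⟨x, hx, e⟩ => ⟨x, h hx, e⟩

/-- The power condition at level `k`. -/
def LevelReg (p k : ℕ) (G : Type*) [Group G] : Prop :=
  ∀ a b : G, ∃ c ∈ Cfsg.powerClosure p k
      ⁅Subgroup.closure ({a, b} : Set G), Subgroup.closure ({a, b} : Set G)⁆,
    (a * b) ^ p ^ k = a ^ p ^ k * b ^ p ^ k * c

theorem levelReg_of_regular (hG : Cfsg.IsRegularPGroup p G) (k : ℕ) : LevelReg p k G :=
  fun a b => hG.2 a b k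

theorem pair_le {a b : G} {H : Subgroup G} (ha : a ∈ H) (hb : b ∈ H) :
    Subgroup.closure ({a, b} : Set G) ≤ H := by
  rw [Subgroup.closure_le]
  rintro x (rfl | rfl) <;> assumption

theorem commutator_pair_le {a b : G} {N : Subgroup G} (hab : ⁅a, b⁆ ∈ N)
    (hn : ∀ g ∈ Subgroup.closure ({a, b} : Set G), ∀ x ∈ N, g * x * g⁻¹ ∈ N) :
    ⁅Subgroup.closure ({a, b} : Set G), Subgroup.closure ({a, b} : Set G)⁆ ≤ N := by
  set S : Set G := {a, b}
  have step : ∀ z : G, (∀ x ∈ S, ⁅x, z⁆ ∈ N) → ∀ g ∈ Subgroup.closure S, ⁅g, z⁆ ∈ N := by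
    intro z hz g hg
    refine Subgroup.closure_induction (p := fun g _ => ⁅g, z⁆ ∈ N) hz ?_ ?_ ?_ hg
    · simp
    · intro u v hu _ hu' hv'
      rw [show ⁅u * v, z⁆ = (u * ⁅v, z⁆ * u⁻¹) * ⁅u, z⁆ by
        simp only [commutatorElement_def]; group]
      exact mul_mem (hn u hu _ hv') hu'
    · intro u hu hu'
      rw [show ⁅u⁻¹, z⁆ = u⁻¹ * ⁅u, z⁆⁻¹ * u⁻¹⁻¹ by simp only [commutatorElement_def]; group]
      exact hn _ (inv_mem hu) _ (inv_mem hu')
  rw [Subgroup.commutator_le]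
  intro g hg h hh
  refine step h (fun x hx => ?_) g hg
  rw [← inv_mem_iff, commutatorElement_inv]
  refine step x (fun y hy => ?_) h hh
  rcases hy with rfl | rfl <;> rcases hx with rfl | rfl
  · simp
  · exact hab
  · rw [← inv_mem_iff, commutatorElement_inv]; exact hab
  · simp

theorem exists_maximal_above (hG : IsPGroup p G) {H : Subgroup G} {x : G} (hx : x ∈ H)
    (hna : ⁅H, H⁆ ≠ ⊥) :
    ∃ M : Subgroup G, M < H ∧ x ∈ M ∧ ⁅H, H⁆ ≤ M ∧ ∀ g ∈ H, ∀ m ∈ M, g * m * g⁻¹ ∈ M := by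
  have hne : Subgroup.zpowers (⟨x, hx⟩ : H) ≠ ⊤ := by
    intro e
    refine hna ?_
    rw [eq_bot_iff, Subgroup.commutator_le]
    intro g hg h hh
    rw [Subgroup.mem_bot, commutatorElement_eq_one_iff_mul_comm]
    obtain ⟨i, hi⟩ := Subgroup.mem_zpowers_iff.mp (e ▸ Subgroup.mem_top (⟨g, hg⟩ : H))
    obtain ⟨j, hj⟩ := Subgroup.mem_zpowers_iff.mp (e ▸ Subgroup.mem_top (⟨h, hh⟩ : H))
    rw [← show x ^ i = g from congrArg Subtype.val hi, ← show x ^ j = h from congrArg Subtype.val hj,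
      ← zpow_add, ← zpow_add, add_comm]
  obtain ⟨M, hM, hxM⟩ := (eq_top_or_exists_le_coatom _).resolve_left hne
  haveI : Group.IsNilpotent H := (hG.to_subgroup H).isNilpotent
  haveI hMn : M.Normal := Subgroup.NormalizerCondition.normal_of_coatom M
    (Group.normalizerCondition_of_isNilpotent (G := H)) hM
  have hle : commutator H ≤ M := by
    by_contra hlt
    have e := hM.2 _ (lt_of_le_of_ne (le_sup_left (b := commutator H)) fun e => hlt (e ▸ le_sup_right))
    -- `H' < ⊤` and the quotient by `M` is simple, hence abelian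
    haveI : Group.IsSolvable H := inferInstance
    haveI : Nontrivial (H ⧸ M) := by
      rw [QuotientGroup.nontrivial_iff]; exact hM.1
    have h1 := Group.IsSolvable.commutator_lt_top_of_nontrivial (G := H ⧸ M)
    refine h1.ne (eq_top_iff.mpr ?_)
    rw [← Subgroup.map_top_of_surjective _ (QuotientGroup.mk'_surjective M), ← e,
      Subgroup.map_sup, commutator_def, Subgroup.map_commutator, commutator_def,
      (Subgroup.map_eq_bot_iff _).mpr (le_of_eq (QuotientGroup.ker_mk' M).symm), bot_sup_eq]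
    exact Subgroup.commutator_mono le_top le_top
  refine ⟨M.map H.subtype, ?_, ⟨⟨x, hx⟩, hxM (Subgroup.mem_zpowers _), rfl⟩, ?_, ?_⟩
  · refine lt_of_le_of_ne (Subgroup.map_subtype_le M) fun e => hM.1 ?_
    refine Subgroup.map_injective H.subtype_injective ?_
    rw [e, ← MonoidHom.range_eq_map, Subgroup.range_subtype]
  · calc ⁅H, H⁆ = (commutator H).map H.subtype := by
          rw [commutator_def, Subgroup.map_commutator, ← MonoidHom.range_eq_map,
            Subgroup.range_subtype]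
      _ ≤ _ := Subgroup.map_mono hle
  · rintro g hg _ ⟨m, hm, rfl⟩
    exact ⟨⟨g, hg⟩ * m * ⟨g, hg⟩⁻¹, hMn.conj_mem m hm _, rfl⟩

theorem commutator_lt (hG : IsPGroup p G) {H : Subgroup G} (hna : ⁅H, H⁆ ≠ ⊥) : ⁅H, H⁆ < H := by
  obtain ⟨M, hM, -, hle, -⟩ := exists_maximal_above hG (one_mem H) hna
  exact hle.trans_lt hM

theorem powerClosure_eq_bot {k : ℕ} {H : Subgroup G} (h : ∀ x ∈ H, x ^ p ^ k = 1) :
    Cfsg.powerClosure p k H = ⊥ := by
  rw [eq_bot_iff, Cfsg.powerClosure, Subgroup.closure_le]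
  rintro _ ⟨x, hx, rfl⟩
  exact Subgroup.mem_bot.mpr (h x hx)

/-- If `a` and `b` commute up to an element of order dividing `p ^ k` inside a subgroup where those
elements form a group, then the derived subgroup of `⟨a, b⟩` has exponent dividing `p ^ k`. -/
theorem derived_exponent {k : ℕ} {H : Subgroup G} {a b : G}
    (hH : H = Subgroup.closure ({a, b} : Set G))
    (hmul : ∀ u ∈ ⁅H, H⁆, ∀ v ∈ ⁅H, H⁆, u ^ p ^ k = 1 → v ^ p ^ k = 1 → (u * v) ^ p ^ k = 1)
    (hab : ⁅a, b⁆ ^ p ^ k = 1) : ∀ x ∈ ⁅H, H⁆, x ^ p ^ k = 1 := by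
  let N : Subgroup G :=
    { carrier := {x | x ∈ ⁅H, H⁆ ∧ x ^ p ^ k = 1}
      one_mem' := ⟨one_mem _, one_pow _⟩
      mul_mem' := fun hu hv => ⟨mul_mem hu.1 hv.1, hmul _ hu.1 _ hv.1 hu.2 hv.2⟩
      inv_mem' := fun hu => ⟨inv_mem hu.1, by rw [inv_pow, hu.2, inv_one]⟩ }
  have haH : a ∈ H := hH ▸ Subgroup.subset_closure (by simp)
  have hbH : b ∈ H := hH ▸ Subgroup.subset_closure (by simp)
  have hle : ⁅H, H⁆ ≤ N := by
    subst hH
    refine commutator_pair_le ⟨Subgroup.commutator_mem_commutator haH hbH, hab⟩ ?_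
    rintro g hg x ⟨hx1, hx2⟩
    refine ⟨?_, by rw [conj_pow, hx2, mul_one, mul_inv_cancel]⟩
    rw [show g * x * g⁻¹ = ⁅g, x⁆ * x by simp [commutatorElement_def]]
    exact mul_mem (Subgroup.commutator_mem_commutator hg
      (Subgroup.commutator_le_self _ hx1)) hx1
  exact fun x hx => (hle hx).2

variable {k : ℕ}

theorem omega_mul (hG : IsPGroup p G) (h : LevelReg p k G) :
    ∀ a b : G, a ^ p ^ k = 1 → b ^ p ^ k = 1 → (a * b) ^ p ^ k = 1 := by
  intro a b
  induction hn : Nat.card (Subgroup.closure ({a, b} : Set G)) using Nat.strong_induction_on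
    generalizing a b with
  | _ n ih => ?_
  intro ha hb
  set H := Subgroup.closure ({a, b} : Set G) with hH
  have haH : a ∈ H := Subgroup.subset_closure (by simp)
  have hbH : b ∈ H := Subgroup.subset_closure (by simp)
  obtain ⟨c, hc, e⟩ := h a b
  rw [e, ha, hb, one_mul, one_mul]
  by_cases hab : ⁅H, H⁆ = ⊥
  · rw [hab, powerClosure_eq_bot (fun x hx => by rw [Subgroup.mem_bot.mp hx, one_pow])] at hc
    exact Subgroup.mem_bot.mp hc
  have small : ∀ M : Subgroup G, M < H → ∀ u ∈ M, ∀ v ∈ M, u ^ p ^ k = 1 → v ^ p ^ k = 1 →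
      (u * v) ^ p ^ k = 1 := fun M hM u hu v hv => by
    refine ih _ ?_ u v rfl
    rw [← hn]
    refine lt_of_le_of_lt (Subgroup.card_le_of_le (pair_le hu hv)) ?_
    exact not_le.mp fun hle => hM.ne (Subgroup.eq_of_le_of_card_ge hM.le hle)
  obtain ⟨M, hM, haM, -, hMn⟩ := exists_maximal_above hG haH hab
  have hcomm : ⁅a, b⁆ ^ p ^ k = 1 := by
    rw [show ⁅a, b⁆ = a * (b * a⁻¹ * b⁻¹) by simp only [commutatorElement_def]; group]
    exact small M hM a haM _ (hMn b hbH _ (inv_mem haM)) ha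
      (by rw [conj_pow, inv_pow, ha, inv_one, mul_one, mul_inv_cancel])
  rw [powerClosure_eq_bot (derived_exponent hH
    (small _ (commutator_lt hG hab)) hcomm)] at hc
  exact Subgroup.mem_bot.mp hc

theorem derived_powers_eq_bot (hG : IsPGroup p G) (h : LevelReg p k G) {a b : G}
    (hab : ⁅a, b⁆ ^ p ^ k = 1) :
    Cfsg.powerClosure p k
      ⁅Subgroup.closure ({a, b} : Set G), Subgroup.closure ({a, b} : Set G)⁆ = ⊥ :=
  powerClosure_eq_bot (derived_exponent rfl (fun u _ v _ => omega_mul hG h u v) hab)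

theorem pow_eq_iff (hG : IsPGroup p G) (h : LevelReg p k G) (a b : G) :
    a ^ p ^ k = b ^ p ^ k ↔ (a * b⁻¹) ^ p ^ k = 1 := by
  constructor
  · intro e
    induction hn : Nat.card (Subgroup.closure ({a, b} : Set G)) using Nat.strong_induction_on
      generalizing a b with
    | _ n ih => ?_
    set H := Subgroup.closure ({a, b} : Set G) with hH
    have haH : a ∈ H := Subgroup.subset_closure (by simp)
    have hbH : b ∈ H := Subgroup.subset_closure (by simp)
    obtain ⟨c, hc, e'⟩ := h a b⁻¹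
    have hcH : Subgroup.closure ({a, b⁻¹} : Set G) ≤ H := pair_le haH (inv_mem hbH)
    have hc' : c ∈ Cfsg.powerClosure p k ⁅H, H⁆ :=
      powerClosure_mono k (Subgroup.commutator_mono hcH hcH) hc
    rw [e', inv_pow, e, mul_inv_cancel, one_mul]
    by_cases hab : ⁅H, H⁆ = ⊥
    · rw [hab, powerClosure_eq_bot (fun x hx => by rw [Subgroup.mem_bot.mp hx, one_pow])] at hc'
      exact Subgroup.mem_bot.mp hc'
    obtain ⟨M, hM, haM, -, hMn⟩ := exists_maximal_above hG haH hab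
    have ha' : b * a * b⁻¹ ∈ M := hMn b hbH a haM
    have hcomm : ⁅a, b⁆ ^ p ^ k = 1 := by
      have := ih _ (by
        rw [← hn]
        refine lt_of_le_of_lt (Subgroup.card_le_of_le (pair_le haM ha')) ?_
        exact not_le.mp fun hle => hM.ne (Subgroup.eq_of_le_of_card_ge hM.le hle)) a (b * a * b⁻¹)
        (by rw [conj_pow, e, (Commute.self_pow b (p ^ k)).eq, mul_inv_cancel_right]) rfl
      rwa [show a * (b * a * b⁻¹)⁻¹ = ⁅a, b⁆ by simp only [commutatorElement_def]; group] at this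
    rw [derived_powers_eq_bot hG h hcomm] at hc'
    exact Subgroup.mem_bot.mp hc'
  · intro e
    have hcomm : ⁅a * b⁻¹, b⁆ ^ p ^ k = 1 := by
      rw [show ⁅a * b⁻¹, b⁆ = (a * b⁻¹) * (b * (a * b⁻¹)⁻¹ * b⁻¹) by
        simp only [commutatorElement_def]; group]
      exact omega_mul hG h _ _ e (by rw [conj_pow, inv_pow, e, inv_one, mul_one, mul_inv_cancel])
    obtain ⟨c, hc, e'⟩ := h (a * b⁻¹) b
    rw [derived_powers_eq_bot hG h hcomm] at hc
    rw [inv_mul_cancel_right, e, Subgroup.mem_bot.mp hc, one_mul, mul_one] at e'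
    exact e'

/-- A product of `p ^ k`-th powers is a `p ^ k`-th power. -/
theorem exists_pow_mul (hG : IsPGroup p G) (h : LevelReg p k G) :
    ∀ a b : G, ∃ z ∈ Subgroup.closure ({a, b} : Set G), z ^ p ^ k = a ^ p ^ k * b ^ p ^ k := by
  intro a b
  induction hn : Nat.card (Subgroup.closure ({a, b} : Set G)) using Nat.strong_induction_on
    generalizing a b with
  | _ n ih => ?_
  set H := Subgroup.closure ({a, b} : Set G) with hH
  have habH : a * b ∈ H := mul_mem (Subgroup.subset_closure (by simp))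
    (Subgroup.subset_closure (by simp))
  obtain ⟨c, hc, e⟩ := h a b
  by_cases hab : ⁅H, H⁆ = ⊥
  · rw [hab, powerClosure_eq_bot (fun x hx => by rw [Subgroup.mem_bot.mp hx, one_pow])] at hc
    exact ⟨a * b, habH, by rw [e, Subgroup.mem_bot.mp hc, mul_one]⟩
  have small : ∀ M : Subgroup G, M < H → ∀ u ∈ M, ∀ v ∈ M,
      ∃ z ∈ M, z ^ p ^ k = u ^ p ^ k * v ^ p ^ k := by
    intro M hM u hu v hv
    obtain ⟨z, hz, ez⟩ := ih _ (by
      rw [← hn]
      refine lt_of_le_of_lt (Subgroup.card_le_of_le (pair_le hu hv)) ?_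
      exact not_le.mp fun hle => hM.ne (Subgroup.eq_of_le_of_card_ge hM.le hle)) u v rfl
    exact ⟨z, pair_le hu hv hz, ez⟩
  obtain ⟨M, hM, hxM, hDM, -⟩ := exists_maximal_above hG habH hab
  obtain ⟨d, hd, hdc⟩ : ∃ d ∈ ⁅H, H⁆, d ^ p ^ k = c := by
    refine Subgroup.closure_induction (p := fun c _ => ∃ d ∈ ⁅H, H⁆, d ^ p ^ k = c)
      ?_ ⟨1, one_mem _, one_pow _⟩ ?_ ?_ hc
    · rintro _ ⟨x, hx, rfl⟩
      exact ⟨x, hx, rfl⟩
    · rintro _ _ - - ⟨u, hu, rfl⟩ ⟨v, hv, rfl⟩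
      exact small _ (commutator_lt hG hab) u hu v hv
    · rintro _ - ⟨u, hu, rfl⟩
      exact ⟨u⁻¹, inv_mem hu, inv_pow _ _⟩
  obtain ⟨z, hz, ez⟩ := small M hM (a * b) hxM d⁻¹ (inv_mem (hDM hd))
  exact ⟨z, hM.le hz, by rw [ez, e, inv_pow, hdc, mul_inv_cancel_right]⟩

theorem powerClosure_eq_set (hG : IsPGroup p G) (h : LevelReg p k G) (H : Subgroup G) :
    {y : G | ∃ x ∈ H, y = x ^ p ^ k} = (Cfsg.powerClosure p k H : Set G) := by
  refine Set.Subset.antisymm Subgroup.subset_closure fun y hy => ?_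
  refine Subgroup.closure_induction (p := fun y _ => ∃ x ∈ H, y = x ^ p ^ k)
    (fun x hx => hx) ⟨1, one_mem _, (one_pow _).symm⟩ ?_ ?_ hy
  · rintro _ _ - - ⟨u, hu, rfl⟩ ⟨v, hv, rfl⟩
    obtain ⟨z, hz, ez⟩ := exists_pow_mul hG h u v
    exact ⟨z, pair_le hu hv hz, ez.symm⟩
  · rintro _ - ⟨u, hu, rfl⟩
    exact ⟨u⁻¹, inv_mem hu, (inv_pow _ _).symm⟩

theorem commutator_powerClosure_le (hG : IsPGroup p G) (h : LevelReg p k G) (H : Subgroup G) :
    ⁅Cfsg.powerClosure p k H, Cfsg.powerClosure p k H⁆ ≤ Cfsg.powerClosure p k ⁅H, H⁆ := by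
  have hH : Cfsg.powerClosure p k H ≤ H := by
    rw [Cfsg.powerClosure, Subgroup.closure_le]
    rintro _ ⟨x, hx, rfl⟩
    exact pow_mem hx _
  rw [Subgroup.commutator_le]
  intro x hx w hw
  rw [← SetLike.mem_coe, ← powerClosure_eq_set hG h] at hx
  obtain ⟨u, hu, rfl⟩ := hx
  have hwH := hH hw
  have hu' : w * u⁻¹ * w⁻¹ ∈ H := mul_mem (mul_mem hwH (inv_mem hu)) (inv_mem hwH)
  obtain ⟨c, hc, e⟩ := h u (w * u⁻¹ * w⁻¹)
  have e2 : ⁅u ^ p ^ k, w⁆ = (u * (w * u⁻¹ * w⁻¹)) ^ p ^ k * c⁻¹ := by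
    rw [e, mul_inv_cancel_right, conj_pow, inv_pow, commutatorElement_def]
    group
  rw [e2]
  refine mul_mem (Subgroup.subset_closure ⟨_, ?_, rfl⟩)
    (inv_mem (powerClosure_mono k (Subgroup.commutator_mono (pair_le hu hu') (pair_le hu hu')) hc))
  rw [show u * (w * u⁻¹ * w⁻¹) = ⁅u, w⁆ by simp only [commutatorElement_def]; group]
  exact Subgroup.commutator_mem_commutator hu hwH

theorem powerClosure_one_powerClosure_le (hG : IsPGroup p G) (h : LevelReg p 1 G)
    (D : Subgroup G) (n : ℕ) :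
    Cfsg.powerClosure p n (Cfsg.powerClosure p 1 D) ≤ Cfsg.powerClosure p (n + 1) D := by
  rw [Cfsg.powerClosure, Subgroup.closure_le]
  rintro _ ⟨y, hy, rfl⟩
  rw [← SetLike.mem_coe, ← powerClosure_eq_set hG h] at hy
  obtain ⟨x, hx, rfl⟩ := hy
  exact Subgroup.subset_closure ⟨x, hx, by rw [← pow_mul, pow_one, pow_succ']⟩

/-- The condition for exponent `p` gives regularity. -/
theorem isRegular_of_level_one (hG : IsPGroup p G) (h : LevelReg p 1 G) :
    Cfsg.IsRegularPGroup p G := by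
  refine ⟨hG, fun a b n => ?_⟩
  induction n generalizing a b with
  | zero => exact ⟨1, one_mem _, by simp⟩
  | succ n ih =>
    set H := Subgroup.closure ({a, b} : Set G) with hH
    have haH : a ∈ H := Subgroup.subset_closure (by simp)
    have hbH : b ∈ H := Subgroup.subset_closure (by simp)
    obtain ⟨c, hc, e⟩ := h a b
    rw [pow_one] at e
    have hcP : c ∈ Cfsg.powerClosure p 1 H := powerClosure_mono 1 (Subgroup.commutator_le_self H) hc
    have haP : a ^ p ∈ Cfsg.powerClosure p 1 H :=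
      Subgroup.subset_closure ⟨a, haH, by rw [pow_one]⟩
    have hbP : b ^ p ∈ Cfsg.powerClosure p 1 H :=
      Subgroup.subset_closure ⟨b, hbH, by rw [pow_one]⟩
    have hK : ∀ K : Subgroup G, K ≤ Cfsg.powerClosure p 1 H →
        Cfsg.powerClosure p n ⁅K, K⁆ ≤ Cfsg.powerClosure p (n + 1) ⁅H, H⁆ := fun K hK =>
      (powerClosure_mono n ((Subgroup.commutator_mono hK hK).trans
        (commutator_powerClosure_le hG h H))).trans (powerClosure_one_powerClosure_le hG h _ n)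
    obtain ⟨e1, he1, h1⟩ := ih (a ^ p) (b ^ p)
    obtain ⟨e2, he2, h2⟩ := ih (a ^ p * b ^ p) c
    refine ⟨e1 * c ^ p ^ n * e2, mul_mem (mul_mem (hK _ (pair_le haP hbP) he1)
      (powerClosure_one_powerClosure_le hG h _ n (Subgroup.subset_closure ⟨c, hc, rfl⟩)))
      (hK _ (pair_le (mul_mem haP hbP) hcP) he2), ?_⟩
    rw [pow_succ', pow_mul, pow_mul, pow_mul, e, h2, h1]
    simp only [mul_assoc]

theorem pow_commute_iff (hG : IsPGroup p G) (h : LevelReg p k G) (a b : G) :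
    a ^ p ^ k * b = b * a ^ p ^ k ↔ (a⁻¹ * b⁻¹ * a * b) ^ p ^ k = 1 := by
  rw [show a⁻¹ * b⁻¹ * a * b = a⁻¹ * (b⁻¹ * a⁻¹ * b)⁻¹ by group, ← pow_eq_iff hG h]
  have e : (b⁻¹ * a⁻¹ * b) ^ p ^ k = b⁻¹ * (a ^ p ^ k)⁻¹ * b := by
    simpa using conj_pow (i := p ^ k) (a := b⁻¹) (b := a⁻¹)
  rw [e, inv_pow]
  constructor
  · intro hc
    have := (show Commute (a ^ p ^ k) b from hc).inv_left
    rw [mul_assoc, this.eq, inv_mul_cancel_left]
  · intro hc
    have h2 : b * (a ^ p ^ k)⁻¹ = (a ^ p ^ k)⁻¹ * b := by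
      conv_lhs => rw [hc]
      group
    exact ((show Commute b (a ^ p ^ k)⁻¹ from h2).inv_right.eq.symm.trans (by rw [inv_inv])) |>
      fun e => by simpa using e

end CfsgLib.Regular
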